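import Groth.Agent.H29Omega.ConormalTrans

/-!
# Right exactness of the conormal sequence of two immersions
-/

set_option autoImplicit false
set_option linter.style.haveILetI false
universe u

open CategoryTheory CategoryTheory.Limits AlgebraicGeometry TopologicalSpace

namespace Groth.Agent.H17.Conormal

open Groth.Agent.H06Mod Groth.Agent.H29Omega

attribute [local instance] Groth.Agent.H06Mod.stalkAlgebra

variable {Z Y X : Scheme.{u}}

theorem unit_comp_pullbackId (M : Z.Modules) :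
    (Scheme.Modules.pullbackPushforwardAdjunction (𝟙 Z)).unit.app M ≫
      (Scheme.Modules.pushforward (𝟙 Z)).map ((Scheme.Modules.pullbackId Z).hom.app M) =
      (Scheme.Modules.pushforwardId Z).inv.app M := by
  rw [← Scheme.Modules.conjugateEquiv_pullbackId_hom Z, conjugateEquiv_apply_app]
  simp

theorem stalkLin_pullbackId_inv (M : Z.Modules) (z : Z) (v : M.presheaf.stalk z) :
    stalkLin ((Scheme.Modules.pullbackId Z).inv.app M) z v = pullStalk (𝟙 Z) M z v := by
  have key : stalkLin ((Scheme.Modules.pullbackId Z).hom.app M) z (pullStalk (𝟙 Z) M z v) = v := by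
    obtain ⟨U, hU, s, rfl⟩ := M.presheaf.exists_germ_eq v
    erw [pullStalk_germ (𝟙 Z) M z U hU s, stalkLin_germ]
    have h2 : ((Scheme.Modules.pullbackId Z).hom.app M).app ((𝟙 Z : Z ⟶ Z) ⁻¹ᵁ U)
        (((Scheme.Modules.pullbackPushforwardAdjunction (𝟙 Z)).unit.app M).app U s) = s :=
      ConcreteCategory.congr_hom (congrArg (fun k => Scheme.Modules.Hom.app k U) (unit_comp_pullbackId M)) s
    erw [h2]
    rfl
  have hinj : ∀ w, stalkLin ((Scheme.Modules.pullbackId Z).inv.app M) z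
      (stalkLin ((Scheme.Modules.pullbackId Z).hom.app M) z w) = w := fun w => by
    rw [← stalkLin_comp, Iso.hom_inv_id_app]
    obtain ⟨U, hU, s, rfl⟩ := ((Scheme.Modules.pullback (𝟙 Z)).obj M).presheaf.exists_germ_eq w
    exact stalkLin_germ _ _ _ _ _
  exact (congrArg _ key.symm).trans (hinj _)

/-- Right exactness of the conormal sequence of a pair of quasi-compact immersions. -/
theorem exact_conormal (f : Y ⟶ X) [IsImmersion f] [QuasiCompact f] (j : Z ⟶ Y) [IsImmersion j] [QuasiCompact j]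
    {φ₁ : (Scheme.Modules.pullback j).obj (Omega.conormal f) ⟶ Omega.conormal (j ≫ f)}
    (hφ₁ : OmegaSh.IsConormalMap (j ≫ f) f (𝟙 X) j φ₁)
    {φ₂ : (Scheme.Modules.pullback (𝟙 Z)).obj (Omega.conormal (j ≫ f)) ⟶ Omega.conormal j}
    (hφ₂ : OmegaSh.IsConormalMap j (j ≫ f) f (𝟙 Z) φ₂) :
    ∃ w : φ₁ ≫ ((Scheme.Modules.pullbackId Z).inv.app (Omega.conormal (j ≫ f)) ≫ φ₂) = 0,
      (ShortComplex.mk _ _ w).Exact ∧ Epi φ₂ ∧
      ∀ z (v : (Omega.conormal (j ≫ f)).presheaf.stalk z),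
        stalkLin ((Scheme.Modules.pullbackId Z).inv.app (Omega.conormal (j ≫ f)) ≫ φ₂) z v =
          stalkLin φ₂ z (pullStalk (𝟙 Z) (Omega.conormal (j ≫ f)) z v) := by
  have hid : ∀ (z : Z) (x : Z.presheaf.stalk z), (𝟙 Z : Z ⟶ Z).stalkMap z x = x := fun z x => by
    rw [Scheme.Hom.stalkMap_id]
    rfl
  let β : ∀ z : Z, X.presheaf.stalk ((j ≫ f).base z) →+* Y.presheaf.stalk (j.base z) :=
    fun z => (baseStalkMap (j ≫ f) j f (𝟙 Z) hφ₂.1 z).hom
  let γ : ∀ z : Z, X.presheaf.stalk (f.base (j.base z)) →+* X.presheaf.stalk ((j ≫ f).base z) :=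
    fun z => (baseStalkMap f (j ≫ f) (𝟙 X) j hφ₁.1 z).hom
  have hβγ : ∀ z x, β z (γ z x) = f.stalkMap (j z) x := by
    intro z x
    obtain ⟨U, hU, s, rfl⟩ := X.presheaf.exists_germ_eq x
    show (baseStalkMap (j ≫ f) j f (𝟙 Z) hφ₂.1 z).hom ((baseStalkMap f (j ≫ f) (𝟙 X) j hφ₁.1 z).hom _) = _
    rw [baseStalkMap_germ hφ₁.1 z U hU U le_rfl hU s]
    erw [baseStalkMap_germ hφ₂.1 z U hU (f ⁻¹ᵁ U) le_rfl hU]
    erw [Scheme.Hom.germ_stalkMap_apply]
    refine congrArg _ ?_
    rw [show (𝟙 X : X ⟶ X).appLE U U le_rfl = 𝟙 _ by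
        simp only [Scheme.Hom.appLE, Scheme.Hom.id_app]
        exact (Category.id_comp _).trans (X.presheaf.map_id _), ← Scheme.Hom.app_eq_appLE]
    rfl
  have hγsurj : ∀ z, Function.Surjective (γ z) := by
    intro z y
    obtain ⟨U, hU, s, rfl⟩ := X.presheaf.exists_germ_eq y
    refine ⟨X.presheaf.germ U (f (j z)) hU s, ?_⟩
    show (baseStalkMap f (j ≫ f) (𝟙 X) j hφ₁.1 z).hom _ = _
    rw [baseStalkMap_germ hφ₁.1 z U hU U le_rfl hU s,
      show (𝟙 X : X ⟶ X).appLE U U le_rfl = 𝟙 _ by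
        simp only [Scheme.Hom.appLE, Scheme.Hom.id_app]
        exact (Category.id_comp _).trans (X.presheaf.map_id _)]
    rfl
  have hβsurj : ∀ z, Function.Surjective (β z) := by
    intro z y
    obtain ⟨x, hx⟩ := f.stalkMap_surjective (j z) y
    exact ⟨γ z x, (hβγ z x).trans hx⟩
  have hβcomp : ∀ z a, (j.stalkMap z).hom (β z a) = ((j ≫ f).stalkMap z).hom a := fun z a =>
    (congr($(congrArg CommRingCat.Hom.hom (baseStalkMap_comp (j ≫ f) j f (𝟙 Z) hφ₂.1 z)) a)).trans (hid z _)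
  have hmem : ∀ z a, β z a ∈ RingHom.ker (j.stalkMap z).hom ↔ a ∈ RingHom.ker ((j ≫ f).stalkMap z).hom :=
    fun z a => by rw [RingHom.mem_ker, RingHom.mem_ker, hβcomp]
  let ρ : ∀ z : Z, (Omega.conormal (j ≫ f)).presheaf.stalk z →ₗ[Z.presheaf.stalk z]
      (Omega.conormal j).presheaf.stalk z := fun z =>
    { toFun := fun v => stalkLin φ₂ z (pullStalk (𝟙 Z) (Omega.conormal (j ≫ f)) z v)
      map_add' := fun a b => (congrArg (stalkLin φ₂ z)
        (map_add (pullStalk (𝟙 Z) (Omega.conormal (j ≫ f)) z).hom a b)).trans (map_add _ _ _)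
      map_smul' := fun r a => by
        refine (congrArg (stalkLin φ₂ z) (pullStalk_smul (𝟙 Z) (Omega.conormal (j ≫ f)) z r a)).trans ?_
        refine (map_smul _ _ _).trans ?_
        exact congrArg (· • stalkLin φ₂ z (pullStalk (𝟙 Z) (Omega.conormal (j ≫ f)) z a)) (hid z r) }
  have hρ : ∀ z (a : RingHom.ker ((j ≫ f).stalkMap z).hom),
      ρ z (cgen (j ≫ f) z a) = cgen j z ⟨β z a.1, (hmem z _).2 a.2⟩ := fun z a =>
    stalkLin_conormalMap hφ₂ z a
  have hkS : ∀ (z : Z) (a : RingHom.ker ((j ≫ f).stalkMap z).hom), β z a.1 = 0 →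
      cgen (j ≫ f) z a ∈ LinearMap.range (stalkLin φ₁ z) := by
    intro z a ha
    obtain ⟨x, hx⟩ := hγsurj z a.1
    have hxk : x ∈ RingHom.ker (f.stalkMap (j z)).hom := by
      rw [← hx, hβγ] at ha
      exact ha
    refine ⟨pullStalk j (Omega.conormal f) z (cgen f (j z) ⟨x, hxk⟩), ?_⟩
    rw [stalkLin_conormalMap hφ₁ z ⟨x, hxk⟩]
    exact congrArg _ (Subtype.ext hx)
  have hzero : ∀ z v, ρ z (stalkLin φ₁ z v) = 0 := by
    intro z v
    obtain ⟨t, rfl⟩ := (pullStalkEquiv j (Omega.conormal f) z).surjective v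
    induction t using TensorProduct.induction_on with
    | zero => rw [map_zero, map_zero, map_zero]
    | add p q hp hq => rw [map_add, map_add, map_add, hp, hq, add_zero]
    | tmul r c =>
      show ρ z (stalkLin φ₁ z (pullStalkLin j (Omega.conormal f) z (r ⊗ₜ c))) = 0
      rw [pullStalkLin_tmul, map_smul, map_smul]
      refine smul_eq_zero_of_right _ ?_
      have hc : c ∈ Submodule.span (Y.presheaf.stalk (j.base z)) (Set.range (cgen f (j.base z))) := by
        rw [span_cgen]; trivial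
      clear r
      induction hc using Submodule.span_induction with
      | zero => rw [map_zero, map_zero, map_zero]
      | add p q _ _ hp hq => rw [map_add, map_add, map_add, hp, hq, add_zero]
      | smul r p _ hp => rw [pullStalk_smul, map_smul, map_smul, hp, smul_zero]
      | mem p hp =>
        obtain ⟨a, rfl⟩ := hp
        rw [stalkLin_conormalMap hφ₁ z a, hρ]
        suffices h0 : β z (γ z a.1) = 0 by
          rw [show (⟨_, _⟩ : RingHom.ker (j.stalkMap z).hom) = 0 from Subtype.ext h0, map_zero]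
        rw [hβγ]
        exact RingHom.mem_ker.1 a.2
  have hcomp : ∀ z (v : (Omega.conormal (j ≫ f)).presheaf.stalk z),
      stalkLin ((Scheme.Modules.pullbackId Z).inv.app (Omega.conormal (j ≫ f)) ≫ φ₂) z v =
        stalkLin φ₂ z (pullStalk (𝟙 Z) (Omega.conormal (j ≫ f)) z v) := by
    intro z v
    rw [stalkLin_comp]
    exact congrArg (stalkLin φ₂ z) (stalkLin_pullbackId_inv _ z v)
  have hw : φ₁ ≫ ((Scheme.Modules.pullbackId Z).inv.app (Omega.conormal (j ≫ f)) ≫ φ₂) = 0 := by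
    refine eq_zero_of_stalkLin _ fun z w => ?_
    rw [stalkLin_comp, hcomp]
    exact hzero z w
  have hexact : ∀ z v, ρ z v = 0 → v ∈ LinearMap.range (stalkLin φ₁ z) := by
    intro z v hv
    let S := LinearMap.range (stalkLin φ₁ z)
    choose L hL using hβsurj z
    let lift : RingHom.ker (j.stalkMap z).hom → RingHom.ker ((j ≫ f).stalkMap z).hom := fun a =>
      ⟨L a.1, (hmem z _).1 (by rw [hL]; exact a.2)⟩
    have hlift : ∀ (a : RingHom.ker (j.stalkMap z).hom) (b : RingHom.ker ((j ≫ f).stalkMap z).hom),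
        β z b.1 = a.1 → S.mkQ (cgen (j ≫ f) z (lift a)) = S.mkQ (cgen (j ≫ f) z b) := by
      intro a b hb
      rw [← sub_eq_zero, ← map_sub, ← map_sub, Submodule.mkQ_apply, Submodule.Quotient.mk_eq_zero]
      refine hkS z _ ?_
      show β z (L a.1 - b.1) = 0
      rw [map_sub, hb, hL, sub_self]
    let g0 : RingHom.ker (j.stalkMap z).hom →+ ((Omega.conormal (j ≫ f)).presheaf.stalk z ⧸ S) :=
      { toFun := fun a => S.mkQ (cgen (j ≫ f) z (lift a))
        map_zero' := by rw [hlift 0 0 (map_zero _), map_zero, map_zero]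
        map_add' := fun a b => by
          rw [hlift (a + b) (lift a + lift b) (by
            show β z (L a.1 + L b.1) = a.1 + b.1
            rw [map_add, hL, hL]), map_add, map_add] }
    have hg0 : ∀ (r : Y.presheaf.stalk (j.base z)) a, g0 (r • a) = (j.stalkMap z).hom r • g0 a := by
      intro r a
      obtain ⟨r', rfl⟩ := hβsurj z r
      show S.mkQ (cgen (j ≫ f) z (lift (β z r' • a))) = _
      rw [hlift (β z r' • a) (r' • lift a) (by
        show β z (r' * L a.1) = β z r' * a.1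
        rw [map_mul, hL]), cgen_smul, map_smul, hβcomp]
      rfl
    obtain ⟨g, hg⟩ := exists_lift_cgen j z g0 hg0
    have hgen : g ∘ₗ ρ z = S.mkQ := by
      refine LinearMap.ext_on_range (span_cgen (j ≫ f) z) fun a => ?_
      rw [LinearMap.comp_apply, hρ, hg]
      exact hlift _ _ rfl
    have h0 : S.mkQ v = 0 := by rw [← hgen, LinearMap.comp_apply, hv, map_zero]
    rwa [Submodule.mkQ_apply, Submodule.Quotient.mk_eq_zero] at h0
  refine ⟨hw, exact_of_stalks _ fun z w hwz => hexact z w ((hcomp z w).symm.trans hwz),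
    epi_of_surjective_stalkLin φ₂ fun z w => ?_, hcomp⟩
  have hsur : LinearMap.range (ρ z) = ⊤ := by
    rw [eq_top_iff, ← span_cgen j z, Submodule.span_le]
    rintro _ ⟨a, rfl⟩
    obtain ⟨b, hb⟩ := hβsurj z a.1
    exact ⟨cgen (j ≫ f) z ⟨b, (hmem z b).1 (by rw [hb]; exact a.2)⟩, (hρ z _).trans (congrArg _ (Subtype.ext hb))⟩
  obtain ⟨v, hv⟩ := LinearMap.range_eq_top.1 hsur w
  exact ⟨_, hv⟩

end Groth.Agent.H17.Conormal
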