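import Groth.Agent.H17.Conormal.Left
import Groth.Agent.H29Omega.StalkCompat
import Groth.Agent.H29Omega.ConormalDiffStalk
import Mathlib

/-!
# The fundamental sequences of sheaves of differentials
-/

set_option autoImplicit false
set_option linter.style.haveILetI false
set_option maxHeartbeats 400000
universe u

open CategoryTheory CategoryTheory.Limits AlgebraicGeometry TopologicalSpace TensorProduct

namespace Groth.Agent.H17.Conormal

open Groth.Agent.H06Mod Groth.Agent.H29Omega

attribute [local instance] Groth.Agent.H06Mod.stalkAlgebra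

/-- The kernel of `Ω[B/R] → Ω[B/A]` is spanned by the differentials of elements of `A`. -/
theorem mem_span_D_of_map_eq_zero (R A B : Type u) [CommRing R] [CommRing A] [CommRing B] [Algebra R A]
    [Algebra R B] [Algebra A B] [IsScalarTower R A B] (w : KaehlerDifferential R B)
    (hw : KaehlerDifferential.map R A B B w = 0) :
    w ∈ Submodule.span B (Set.range fun a : A => KaehlerDifferential.D R B (algebraMap A B a)) := by
  obtain ⟨t, rfl⟩ := (KaehlerDifferential.exact_mapBaseChange_map R A B w).1 hw
  clear hw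
  induction t using TensorProduct.induction_on with
  | zero => rw [map_zero]; exact zero_mem _
  | add a b ha hb => rw [map_add]; exact add_mem ha hb
  | tmul b ω =>
    rw [KaehlerDifferential.mapBaseChange_tmul]
    refine Submodule.smul_mem _ b ?_
    have hω : ω ∈ Submodule.span A (Set.range (KaehlerDifferential.D R A)) := by
      rw [KaehlerDifferential.span_range_derivation]; trivial
    induction hω using Submodule.span_induction with
    | zero => rw [map_zero]; exact zero_mem _
    | add x y _ _ hx hy => rw [map_add]; exact add_mem hx hy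
    | smul r x _ hx => rw [map_smul, ← algebraMap_smul B r]; exact Submodule.smul_mem _ _ hx
    | mem x hx =>
      obtain ⟨a, rfl⟩ := hx
      rw [KaehlerDifferential.map_D]
      exact Submodule.subset_span ⟨a, rfl⟩

variable {X Y Z : Scheme.{u}}

theorem exact_diffSeq (f : X ⟶ Y) (g : Y ⟶ Z)
    {ΩY : Y.Modules} {dY : OmegaSh.Der g ΩY} (hY : OmegaSh.IsUniversal dY)
    {ΩX : X.Modules} {dX : OmegaSh.Der (f ≫ g) ΩX} (hX : OmegaSh.IsUniversal dX)
    {ΩXY : X.Modules} {dXY : OmegaSh.Der f ΩXY} (hXY : OmegaSh.IsUniversal dXY)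
    {c₁ : (Scheme.Modules.pullback f).obj ΩY ⟶ ΩX} (hc₁ : OmegaSh.IsDiffCompat f dY dX c₁)
    {c₂ : (Scheme.Modules.pullback (𝟙 X)).obj ΩX ⟶ ΩXY} (hc₂ : OmegaSh.IsDiffCompat (𝟙 X) dX dXY c₂) :
    ∃ w : c₁ ≫ ((Scheme.Modules.pullbackId X).inv.app ΩX ≫ c₂) = 0,
      (ShortComplex.mk _ _ w).Exact ∧ Epi c₂ := by
  let ρ : ∀ x : X, ΩX.presheaf.stalk x →ₗ[X.presheaf.stalk x] ΩXY.presheaf.stalk x := fun x =>
    stalkLin ((Scheme.Modules.pullbackId X).inv.app ΩX ≫ c₂) x
  have hρg : ∀ (x : X) (U : X.Opens) (hU : x ∈ U) (s : Γ(X, U)),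
      ρ x (ΩX.presheaf.germ U x hU (dX.app U s)) = ΩXY.presheaf.germ U x hU (dXY.app U s) := by
    intro x U hU s
    show stalkLin _ x _ = _
    rw [stalkLin_comp, stalkLin_pullbackId_inv]
    erw [pullStalk_germ (𝟙 X) ΩX x U hU, stalkLin_germ]
    refine congrArg (ΩXY.presheaf.germ U x hU) ?_
    refine (hc₂ U s).trans (congrArg (dXY.app U) ?_)
    rw [Scheme.Hom.id_app]
    rfl
  have hspanY : ∀ (y : Y) (m : ΩY.presheaf.stalk y), m ∈ Submodule.span (Y.presheaf.stalk y)
      {v | ∃ (U : Y.Opens) (hU : y ∈ U) (s : Γ(Y, U)), v = ΩY.presheaf.germ U y hU (dY.app U s)} := by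
    intro y m
    obtain ⟨e, he⟩ := exists_stalkEquiv dY hY y
    have h : e m ∈ Submodule.span (Y.presheaf.stalk y)
        (Set.range (KaehlerDifferential.D (Z.presheaf.stalk (g.base y)) (Y.presheaf.stalk y))) := by
      rw [KaehlerDifferential.span_range_derivation]; trivial
    have h2 := Submodule.mem_map_of_mem (f := e.symm.toLinearMap) h
    rw [Submodule.map_span, LinearEquiv.coe_toLinearMap, LinearEquiv.symm_apply_apply] at h2
    refine Submodule.span_mono ?_ h2
    rintro _ ⟨_, ⟨t, rfl⟩, rfl⟩
    obtain ⟨U, hU, s, rfl⟩ := Y.presheaf.exists_germ_eq t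
    exact ⟨U, hU, s, by rw [← he U hU s, LinearEquiv.symm_apply_apply]⟩
  have hc1g : ∀ (x : X) (U : Y.Opens) (hU : f x ∈ U) (s : Γ(Y, U)),
      stalkLin c₁ x (pullStalk f ΩY x (ΩY.presheaf.germ U (f x) hU (dY.app U s))) =
        ΩX.presheaf.germ (f ⁻¹ᵁ U) x hU (dX.app (f ⁻¹ᵁ U) (f.app U s)) := by
    intro x U hU s
    erw [pullStalk_germ f ΩY x U hU, stalkLin_germ]
    exact congrArg (ΩX.presheaf.germ (f ⁻¹ᵁ U) x hU) (hc₁ U s)
  have hw : c₁ ≫ ((Scheme.Modules.pullbackId X).inv.app ΩX ≫ c₂) = 0 := by
    refine eq_zero_of_stalkLin _ fun x w => ?_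
    rw [stalkLin_comp]
    obtain ⟨t, rfl⟩ := (pullStalkEquiv f ΩY x).surjective w
    show ρ x (stalkLin c₁ x (pullStalkLin f ΩY x t)) = 0
    induction t using TensorProduct.induction_on with
    | zero => rw [map_zero, map_zero, map_zero]
    | add p q hp hq => rw [map_add, map_add, map_add, hp, hq, add_zero]
    | tmul r m =>
      rw [pullStalkLin_tmul, map_smul, map_smul]
      refine smul_eq_zero_of_right _ ?_
      have hm := hspanY (f x) m
      clear r
      induction hm using Submodule.span_induction with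
      | zero => rw [map_zero, map_zero, map_zero]
      | add p q _ _ hp hq => rw [map_add, map_add, map_add, hp, hq, add_zero]
      | smul r p _ hp => rw [pullStalk_smul, map_smul, map_smul, hp, smul_zero]
      | mem p hp =>
        obtain ⟨U, hU, s, rfl⟩ := hp
        rw [hc1g x U hU s, hρg x (f ⁻¹ᵁ U) hU]
        obtain ⟨e, he⟩ := exists_stalkEquiv dXY hXY x
        refine e.injective ?_
        rw [he, map_zero, ← Scheme.Hom.germ_stalkMap_apply f U x hU s]
        exact Derivation.map_algebraMap _ _
  have key : ∀ x, (∀ v, ρ x v = 0 → v ∈ LinearMap.range (stalkLin c₁ x)) ∧ Function.Surjective (ρ x) := by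
    intro x
    obtain ⟨eX, heX⟩ := exists_stalkEquiv dX hX x
    obtain ⟨eXY, heXY⟩ := exists_stalkEquiv dXY hXY x
    letI : Algebra (Z.presheaf.stalk ((f ≫ g).base x)) (Y.presheaf.stalk (f.base x)) :=
      (g.stalkMap (f.base x)).hom.toAlgebra
    haveI : IsScalarTower (Z.presheaf.stalk ((f ≫ g).base x)) (Y.presheaf.stalk (f.base x))
        (X.presheaf.stalk x) := .of_algebraMap_eq fun r =>
      congr($(congrArg CommRingCat.Hom.hom (Scheme.Hom.stalkMap_comp f g x)) r)
    have hL : ∀ w, eXY (ρ x (eX.symm w)) = KaehlerDifferential.map (Z.presheaf.stalk ((f ≫ g).base x))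
        (Y.presheaf.stalk (f.base x)) (X.presheaf.stalk x) (X.presheaf.stalk x) w := by
      intro w
      have hw : w ∈ Submodule.span (X.presheaf.stalk x) (Set.range
          (KaehlerDifferential.D (Z.presheaf.stalk ((f ≫ g).base x)) (X.presheaf.stalk x))) := by
        rw [KaehlerDifferential.span_range_derivation]; trivial
      induction hw using Submodule.span_induction with
      | zero => rw [map_zero, map_zero, map_zero, map_zero]
      | add p q _ _ hp hq => rw [map_add, map_add, map_add, hp, hq, map_add]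
      | smul r p _ hp => rw [map_smul, map_smul, map_smul, hp, map_smul]
      | mem p hp =>
        obtain ⟨t, rfl⟩ := hp
        obtain ⟨U, hU, s, rfl⟩ := X.presheaf.exists_germ_eq t
        rw [← heX U hU s, LinearEquiv.symm_apply_apply, hρg, heXY, heX, KaehlerDifferential.map_D]
        rfl
    refine ⟨fun v hv => ?_, fun v => ?_⟩
    · have h0 : eX v ∈ Submodule.span (X.presheaf.stalk x) (Set.range fun a : Y.presheaf.stalk (f.base x) =>
          KaehlerDifferential.D (Z.presheaf.stalk ((f ≫ g).base x)) (X.presheaf.stalk x) (algebraMap _ _ a)) :=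
        mem_span_D_of_map_eq_zero _ _ _ _ (by rw [← hL, LinearEquiv.symm_apply_apply, hv, map_zero])
      have h1 : eX v ∈ (LinearMap.range (stalkLin c₁ x)).map eX.toLinearMap := by
        refine Submodule.span_le.2 ?_ h0
        rintro _ ⟨a, rfl⟩
        obtain ⟨U, hU, s, rfl⟩ := Y.presheaf.exists_germ_eq a
        refine ⟨_, ⟨_, hc1g x U hU s⟩, (heX _ _ _).trans ?_⟩
        exact congrArg _ (Scheme.Hom.germ_stalkMap_apply f U x hU s).symm
      obtain ⟨v', hv', he⟩ := h1
      rwa [← eX.injective he]
    · obtain ⟨w, hw⟩ := KaehlerDifferential.map_surjective (Z.presheaf.stalk ((f ≫ g).base x))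
        (Y.presheaf.stalk (f.base x)) (X.presheaf.stalk x) (eXY v)
      exact ⟨eX.symm w, eXY.injective ((hL w).trans hw)⟩
  refine ⟨hw, exact_of_stalks _ fun x v hv => (key x).1 v hv, ?_⟩
  haveI : Epi ((Scheme.Modules.pullbackId X).inv.app ΩX ≫ c₂) :=
    epi_of_surjective_stalkLin _ fun x => (key x).2
  exact epi_of_epi ((Scheme.Modules.pullbackId X).inv.app ΩX) c₂

/-- The conormal sequence of an immersion into a scheme over a base. -/
theorem exact_conormalDiffSeq (f : Y ⟶ Z) (j : X ⟶ Y) [IsImmersion j] [QuasiCompact j]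
    {ΩY : Y.Modules} {dY : OmegaSh.Der f ΩY} (hY : OmegaSh.IsUniversal dY)
    {ΩX : X.Modules} {dX : OmegaSh.Der (j ≫ f) ΩX} (hX : OmegaSh.IsUniversal dX)
    {φ : Omega.conormal j ⟶ (Scheme.Modules.pullback j).obj ΩY} (hφ : OmegaSh.IsConormalDiff j dY φ)
    {c : (Scheme.Modules.pullback j).obj ΩY ⟶ ΩX} (hc : OmegaSh.IsDiffCompat j dY dX c) :
    ∃ w : φ ≫ c = 0, (ShortComplex.mk _ _ w).Exact ∧ Epi c := by
  have key : ∀ x, (∀ a, stalkLin c x (stalkLin φ x a) = 0) ∧
      (∀ v, stalkLin c x v = 0 → ∃ a, stalkLin φ x a = v) ∧ Function.Surjective (stalkLin c x) := by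
    intro x
    obtain ⟨e, he⟩ := exists_pullEquiv dY hY j x
    obtain ⟨eX, heX⟩ := exists_stalkEquiv dX hX x
    obtain ⟨eX', heX'⟩ : ∃ eX' : ΩX.presheaf.stalk x ≃ₗ[X.presheaf.stalk x]
        @KaehlerDifferential (Z.presheaf.stalk (f.base (j.base x))) (X.presheaf.stalk x) _ _
          ((j ≫ f).stalkMap x).hom.toAlgebra, eX' = eX := ⟨eX, rfl⟩
    subst heX'
    letI : Algebra (Z.presheaf.stalk (f.base (j.base x))) (X.presheaf.stalk x) :=
      ((j ≫ f).stalkMap x).hom.toAlgebra
    haveI : IsScalarTower (Z.presheaf.stalk (f.base (j.base x))) (Y.presheaf.stalk (j.base x))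
        (X.presheaf.stalk x) := .of_algebraMap_eq fun r =>
      congr($(congrArg CommRingCat.Hom.hom (Scheme.Hom.stalkMap_comp j f x)) r)
    have hsurj : Function.Surjective (algebraMap (Y.presheaf.stalk (j.base x)) (X.presheaf.stalk x)) := j.stalkMap_surjective x
    have hL : ∀ t, eX' (stalkLin c x (e.symm t)) = KaehlerDifferential.mapBaseChange (Z.presheaf.stalk (f.base (j.base x))) (Y.presheaf.stalk (j.base x)) (X.presheaf.stalk x) t := by
      intro t
      induction t using TensorProduct.induction_on with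
      | zero => rw [map_zero, map_zero, map_zero]; exact (map_zero _).symm
      | add p q hp hq => rw [map_add, map_add, map_add, hp, hq]; exact (map_add _ _ _).symm
      | tmul b ω =>
        rw [KaehlerDifferential.mapBaseChange_tmul, show b ⊗ₜ[(Y.presheaf.stalk (j.base x))] ω = b • ((1 : (X.presheaf.stalk x)) ⊗ₜ[(Y.presheaf.stalk (j.base x))] ω) by
          rw [TensorProduct.smul_tmul', smul_eq_mul, mul_one], map_smul, map_smul, map_smul]
        refine congrArg (b • ·) ?_
        have hω : ω ∈ Submodule.span (Y.presheaf.stalk (j.base x)) (Set.range (KaehlerDifferential.D (Z.presheaf.stalk (f.base (j.base x))) (Y.presheaf.stalk (j.base x)))) := by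
          rw [KaehlerDifferential.span_range_derivation]; trivial
        clear b
        induction hω using Submodule.span_induction with
        | zero => rw [TensorProduct.tmul_zero, map_zero, map_zero, map_zero]; exact (map_zero _).symm
        | add p q _ _ hp hq => rw [TensorProduct.tmul_add, map_add, map_add, map_add, hp, hq]; exact (map_add _ _ _).symm
        | smul r p _ hp =>
          rw [TensorProduct.tmul_smul, ← algebraMap_smul (X.presheaf.stalk x) r, map_smul, map_smul, map_smul, hp, map_smul,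
            algebraMap_smul]
          rfl
        | mem p hp =>
          obtain ⟨t, rfl⟩ := hp
          obtain ⟨U, hU, s, rfl⟩ := Y.presheaf.exists_germ_eq t
          rw [← he U hU s, LinearEquiv.symm_apply_apply, stalkLin_germ, KaehlerDifferential.map_D]
          refine (congrArg eX' (congrArg (ΩX.presheaf.germ (j ⁻¹ᵁ U) x hU) (hc U s))).trans ?_
          refine (heX _ _ _).trans (congrArg _ ?_)
          exact (Scheme.Hom.germ_stalkMap_apply j U x hU s).symm
    have hφs : ∀ a : RingHom.ker (j.stalkMap x).hom, e (stalkLin φ x (cgen j x a)) =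
        (1 : (X.presheaf.stalk x)) ⊗ₜ[(Y.presheaf.stalk (j.base x))] KaehlerDifferential.D (Z.presheaf.stalk (f.base (j.base x))) (Y.presheaf.stalk (j.base x)) (a : (Y.presheaf.stalk (j.base x))) := fun a => stalkLin_conormalDiff hφ x he a
    refine ⟨fun v => ?_, fun v hv => ?_, fun v => ?_⟩
    · obtain ⟨a, rfl⟩ := exists_cgen_eq j x v
      refine eX'.injective ?_
      rw [← e.symm_apply_apply (stalkLin φ x _), hL, hφs, KaehlerDifferential.mapBaseChange_tmul,
        one_smul, KaehlerDifferential.map_D, map_zero,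
        show algebraMap (Y.presheaf.stalk (j.base x)) (X.presheaf.stalk x) (a : (Y.presheaf.stalk (j.base x))) = 0 from RingHom.mem_ker.1 a.2, map_zero]
      rfl
    · have h0 : KaehlerDifferential.mapBaseChange (Z.presheaf.stalk (f.base (j.base x))) (Y.presheaf.stalk (j.base x)) (X.presheaf.stalk x) (e v) = 0 := by
        rw [← hL, LinearEquiv.symm_apply_apply, hv, map_zero]
        rfl
      letI : Algebra (Z.presheaf.stalk (f.base (j.base x))) (Y.presheaf.stalk (j.base x)) :=
        stalkAlgebra f (j.base x)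
      have hex := KaehlerDifferential.exact_kerCotangentToTensor_mapBaseChange (Z.presheaf.stalk (f.base (j.base x))) (Y.presheaf.stalk (j.base x)) (X.presheaf.stalk x) hsurj
      obtain ⟨t, ht⟩ := (hex (e v)).1 h0
      obtain ⟨a, rfl⟩ := Ideal.toCotangent_surjective _ t
      rw [KaehlerDifferential.kerCotangentToTensor_toCotangent] at ht
      exact ⟨cgen j x ⟨a.1, a.2⟩, e.injective ((hφs _).trans ht)⟩
    · letI : Algebra (Z.presheaf.stalk (f.base (j.base x))) (Y.presheaf.stalk (j.base x)) :=
        stalkAlgebra f (j.base x)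
      have hs := KaehlerDifferential.mapBaseChange_surjective (Z.presheaf.stalk (f.base (j.base x))) (Y.presheaf.stalk (j.base x)) (X.presheaf.stalk x) hsurj
      obtain ⟨t, ht⟩ := hs (eX' v)
      exact ⟨e.symm t, eX'.injective ((hL t).trans ht)⟩
  have hw : φ ≫ c = 0 := eq_zero_of_stalkLin _ fun x a => by rw [stalkLin_comp]; exact (key x).1 a
  exact ⟨hw, exact_of_stalks _ fun x v hv => (key x).2.1 v hv,
    epi_of_surjective_stalkLin _ fun x => (key x).2.2⟩

end Groth.Agent.H17.Conormal
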