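import Groth.Agent.H17.Conormal.Trans
import Groth.Agent.H29Omega.ConormalLci
import Groth.Agent.H29Slice.KoszulReg
import Groth.Agent.H17.KerStalk
import Groth.Prelude.Def_RegImm

/-!
# Left exactness of the conormal sequence when the second immersion is Koszul-regular
-/

set_option autoImplicit false
set_option linter.style.haveILetI false
universe u

open CategoryTheory CategoryTheory.Limits AlgebraicGeometry TopologicalSpace TensorProduct

namespace Groth.Agent.H17.Conormal

open Groth.Agent.H06Mod Groth.Agent.H29Omega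

attribute [local instance] Groth.Agent.H06Mod.stalkAlgebra

variable {Z Y X : Scheme.{u}}

theorem exists_cgen_eq (i : Z ⟶ X) [IsImmersion i] [QuasiCompact i] (z : Z)
    (v : (Omega.conormal i).presheaf.stalk z) : ∃ a, cgen i z a = v := by
  have hv : v ∈ Submodule.span (Z.presheaf.stalk z) (Set.range (cgen i z)) := by rw [span_cgen]; trivial
  induction hv using Submodule.span_induction with
  | mem w hw => exact hw
  | zero => exact ⟨0, map_zero _⟩
  | add a b _ _ ha hb =>
    obtain ⟨a', rfl⟩ := ha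
    obtain ⟨b', rfl⟩ := hb
    exact ⟨a' + b', map_add _ _ _⟩
  | smul r a _ ha =>
    obtain ⟨a', rfl⟩ := ha
    obtain ⟨r', rfl⟩ := i.stalkMap_surjective z r
    exact ⟨r' • a', cgen_smul i z r' a'⟩

theorem mem_sq_of_cgen_eq_zero (i : Z ⟶ X) [IsImmersion i] [QuasiCompact i] (z : Z)
    (a : RingHom.ker (i.stalkMap z).hom) (h : cgen i z a = 0) :
    (a : X.presheaf.stalk (i z)) ∈ RingHom.ker (i.stalkMap z).hom ^ 2 := by
  let K := RingHom.ker (i.stalkMap z).hom
  let e : (X.presheaf.stalk (i z) ⧸ K) ≃+* Z.presheaf.stalk z :=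
    RingHom.quotientKerEquivOfSurjective (i.stalkMap_surjective z)
  letI : Module (Z.presheaf.stalk z) K.Cotangent := Module.compHom _ e.symm.toRingHom
  obtain ⟨g, hg⟩ := exists_lift_cgen i z (N := K.Cotangent) K.toCotangent.toAddMonoidHom (fun r a => by
    show K.toCotangent (r • a) = e.symm ((i.stalkMap z).hom r) • K.toCotangent a
    have : e.symm ((i.stalkMap z).hom r) = Ideal.Quotient.mk K r := by
      rw [RingEquiv.symm_apply_eq]; rfl
    rw [this, map_smul]
    rfl)
  have h0 : K.toCotangent a = 0 := (hg a).symm.trans ((congrArg g h).trans (map_zero g))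
  exact (Ideal.toCotangent_eq_zero _ _).1 h0

theorem injective_stalkLin_of_koszulReg (f : Y ⟶ X) [IsImmersion f] [QuasiCompact f] (j : Z ⟶ Y)
    [IsImmersion j] [QuasiCompact j]
    {φ₁ : (Scheme.Modules.pullback j).obj (Omega.conormal f) ⟶ Omega.conormal (j ≫ f)}
    (hφ₁ : OmegaSh.IsConormalMap (j ≫ f) f (𝟙 X) j φ₁) (z : Z)
    (hj : RegImm.IsRegularImmersionAt .koszul j z) : Function.Injective (stalkLin φ₁ z) := by
  classical
  obtain ⟨U, hzU, hcl, rs, hrs, hker⟩ := hj
  haveI := hcl
  letI := TopCat.Presheaf.algebra_section_stalk Y.presheaf (⟨j z, hzU⟩ : U.1)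
  haveI := U.2.isLocalization_stalk ⟨j z, hzU⟩
  let A := X.presheaf.stalk (f.base (j.base z))
  let q : A →+* Y.presheaf.stalk (j.base z) := (f.stalkMap (j.base z)).hom
  let gY : Fin rs.length → Y.presheaf.stalk (j.base z) :=
    algebraMap Γ(Y, U.1) (Y.presheaf.stalk (j.base z)) ∘ rs.get
  have hgY : CAlgX.IsH1Regular gY :=
    H29Omega.isH1Regular_of_isLocalization (U.2.primeIdealOf ⟨j z, hzU⟩).asIdeal.primeCompl
      (H29Slice.isH1Regular_of_isKoszulRegular hrs)
  choose fl hfl using fun k => f.stalkMap_surjective (j.base z) (gY k)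
  have hkerj : RingHom.ker (j.stalkMap z).hom = Ideal.span (Set.range gY) := by
    rw [H17.ker_stalkMap_eq_map j U.2 z hzU, hker, Ideal.map_ofList, Ideal.ofList]
    refine congrArg Ideal.span (Set.ext fun r => ?_)
    constructor
    · intro hr
      obtain ⟨b, hb, rfl⟩ := List.mem_map.1 hr
      obtain ⟨k, rfl⟩ := List.mem_iff_get.1 hb
      exact ⟨k, rfl⟩
    · rintro ⟨k, rfl⟩
      exact List.mem_map.2 ⟨_, List.get_mem rs k, rfl⟩
  -- the kernel of the composite
  have hcompk : RingHom.ker ((j ≫ f).stalkMap z).hom = Ideal.span (Set.range fl) ⊔ RingHom.ker q := by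
    rw [Scheme.Hom.stalkMap_comp]
    change RingHom.ker ((j.stalkMap z).hom.comp q) = _
    rw [← RingHom.comap_ker, hkerj]
    have : Ideal.span (Set.range gY) = (Ideal.span (Set.range fl)).map q := by
      rw [Ideal.map_span, ← Set.range_comp]
      exact congrArg Ideal.span (congrArg Set.range (funext fun k => (hfl k).symm))
    rw [this, Ideal.comap_map_of_surjective _ (f.stalkMap_surjective (j.base z)), ← RingHom.ker_eq_comap_bot]
  let N := ((Scheme.Modules.pullback j).obj (Omega.conormal f)).presheaf.stalk z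
  let gen : RingHom.ker q →+ N := (pullStalk j (Omega.conormal f) z).hom.comp (cgen f (j.base z))
  have hgen : ∀ (r : A) b, gen (r • b) = (j.stalkMap z).hom (q r) • gen b := fun r b => by
    show pullStalk j (Omega.conormal f) z (cgen f (j.base z) (r • b)) = _
    rw [cgen_smul]
    exact pullStalk_smul j (Omega.conormal f) z _ _
  letI : Module A N := Module.compHom N ((j.stalkMap z).hom.comp q)
  let genL : RingHom.ker q →ₗ[A] N := { toFun := gen, map_add' := map_add gen, map_smul' := hgen }
  let Λ : A ⊗[A] RingHom.ker q →ₗ[A] N := genL ∘ₗ (TensorProduct.lid A _).toLinearMap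
  -- every element of the source is the image of a single generator
  have hsurj : ∀ v : N, ∃ a, gen a = v := by
    intro v
    obtain ⟨t, rfl⟩ := (pullStalkEquiv j (Omega.conormal f) z).surjective v
    induction t using TensorProduct.induction_on with
    | zero => exact ⟨0, by rw [map_zero, map_zero]⟩
    | add a b ha hb =>
      obtain ⟨a', ha'⟩ := ha
      obtain ⟨b', hb'⟩ := hb
      exact ⟨a' + b', by rw [map_add, ha', hb', map_add]⟩
    | tmul r m =>
      obtain ⟨a, rfl⟩ := exists_cgen_eq f (j.base z) m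
      obtain ⟨r₁, rfl⟩ := j.stalkMap_surjective z r
      obtain ⟨r₂, rfl⟩ := f.stalkMap_surjective (j.base z) r₁
      refine ⟨r₂ • a, (hgen r₂ a).trans ?_⟩
      show _ = pullStalkLin j (Omega.conormal f) z (_ ⊗ₜ cgen f (j.base z) a)
      rw [pullStalkLin_tmul]
      rfl
  rw [injective_iff_map_eq_zero]
  intro v hv
  obtain ⟨a, rfl⟩ := hsurj v
  have hφa : cgen (j ≫ f) z ⟨(baseStalkMap f (j ≫ f) (𝟙 X) j hφ₁.1 z).hom a.1, baseStalkMap_mem_ker hφ₁.1 z a⟩ = 0 :=
    (stalkLin_conormalMap hφ₁ z a).symm.trans hv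
  have hγ : (baseStalkMap f (j ≫ f) (𝟙 X) j hφ₁.1 z).hom a.1 = a.1 := by
    obtain ⟨W, hW, s, hs⟩ := X.presheaf.exists_germ_eq a.1
    rw [← hs, baseStalkMap_germ hφ₁.1 z W hW W le_rfl hW s,
      show (𝟙 X : X ⟶ X).appLE W W le_rfl = 𝟙 _ by
        simp only [Scheme.Hom.appLE, Scheme.Hom.id_app]
        exact (Category.id_comp _).trans (X.presheaf.map_id _)]
    rfl
  have hsq : a.1 ∈ (Ideal.span (Set.range fl) ⊔ RingHom.ker q) ^ 2 := by
    have h2 : (baseStalkMap f (j ≫ f) (𝟙 X) j hφ₁.1 z).hom a.1 ∈ RingHom.ker ((j ≫ f).stalkMap z).hom ^ 2 :=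
      mem_sq_of_cgen_eq_zero (j ≫ f) z _ hφa
    rw [hcompk, hγ] at h2
    exact h2
  haveI : Module.Flat A A := inferInstance
  have hmem := H29Omega.mem_span_tmul_of_mul_mem_sq (A' := A) (T' := A) (J := RingHom.ker q) q
    (f.stalkMap_surjective (j.base z)) (by rw [Algebra.algebraMap_self, Ideal.map_id]) fl
    (by rwa [show (q ∘ fl) = gY from funext hfl]) ((1 : A) ⊗ₜ[A] a)
    (by rw [H29Omega.tmulMap_tmul, one_mul, Algebra.algebraMap_self, Ideal.map_id]; exact hsq)
  have hkill : ∀ w ∈ Submodule.span A {y | ∃ p ∈ Ideal.span (Set.range fl) ⊔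
      (RingHom.ker q).map (algebraMap A A), ∃ b : RingHom.ker q, y = p ⊗ₜ[A] b}, Λ w = 0 := by
    intro w hw
    induction hw using Submodule.span_induction with
    | mem w hw =>
      obtain ⟨p, hp, b, rfl⟩ := hw
      rw [Algebra.algebraMap_self, Ideal.map_id, ← hcompk] at hp
      show genL ((TensorProduct.lid A _) (p ⊗ₜ[A] b)) = 0
      rw [TensorProduct.lid_tmul, map_smul]
      show (j.stalkMap z).hom (q p) • gen b = 0
      have h0 : (j.stalkMap z).hom (q p) = 0 := by
        have := RingHom.mem_ker.1 hp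
        rwa [Scheme.Hom.stalkMap_comp] at this
      rw [h0, zero_smul]
    | zero => exact map_zero _
    | add x y _ _ hx hy => rw [map_add, hx, hy, add_zero]
    | smul r x _ hx => rw [map_smul, hx, smul_zero]
  have h1 := hkill _ hmem
  simpa [Λ, genL] using h1

end Groth.Agent.H17.Conormal
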