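import Groth.Agent.H29Omega.ConormalStalk
import Groth.Agent.H29Slice.RestrictKer
import Groth.Agent.H17.KerStalk
import Mathlib

/-!
# Vanishing of the stalk of the conormal sheaf
-/

set_option autoImplicit false
set_option linter.style.haveILetI false
universe u

open CategoryTheory CategoryTheory.Limits AlgebraicGeometry TopologicalSpace

namespace Groth.Agent.H17.Conormal

open Groth.Agent.H29Omega

variable {Y X : Scheme.{u}} (j : Y ⟶ X) [IsImmersion j] [QuasiCompact j] (y : Y)

theorem subsingleton_of_ker_eq_bot (h : RingHom.ker (j.stalkMap y).hom = ⊥) :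
    Subsingleton ((Omega.conormal j).presheaf.stalk y) := by
  haveI : Subsingleton (RingHom.ker (j.stalkMap y).hom) := by rw [h]; infer_instance
  refine (Submodule.subsingleton_iff (Y.presheaf.stalk y)).1 (subsingleton_of_bot_eq_top (Eq.symm ?_))
  rw [← span_cgen j y, Submodule.span_eq_bot]
  rintro _ ⟨a, rfl⟩
  rw [Subsingleton.elim a 0, map_zero]

theorem le_sq_of_subsingleton (h : Subsingleton ((Omega.conormal j).presheaf.stalk y)) :
    RingHom.ker (j.stalkMap y).hom ≤ RingHom.ker (j.stalkMap y).hom * RingHom.ker (j.stalkMap y).hom := by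
  set K := RingHom.ker (j.stalkMap y).hom with hK
  let e : (X.presheaf.stalk (j y) ⧸ K) ≃+* Y.presheaf.stalk y :=
    RingHom.quotientKerEquivOfSurjective (j.stalkMap_surjective y)
  letI : Module (Y.presheaf.stalk y) K.Cotangent := Module.compHom _ e.symm.toRingHom
  obtain ⟨g, hg⟩ := exists_lift_cgen j y (N := K.Cotangent) K.toCotangent.toAddMonoidHom (fun r a => by
    show K.toCotangent (r • a) = e.symm ((j.stalkMap y).hom r) • K.toCotangent a
    have : e.symm ((j.stalkMap y).hom r) = Ideal.Quotient.mk K r := by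
      rw [RingEquiv.symm_apply_eq]; rfl
    rw [this, map_smul]
    rfl)
  intro a ha
  have h0 : K.toCotangent ⟨a, ha⟩ = 0 :=
    (hg ⟨a, ha⟩).symm.trans ((congrArg g (Subsingleton.elim _ _)).trans (map_zero g))
  rw [Ideal.toCotangent_eq_zero, pow_two] at h0
  exact h0

theorem exists_isOpenImmersion_of_subsingleton [LocallyOfFinitePresentation j]
    (h : Subsingleton ((Omega.conormal j).presheaf.stalk y)) :
    ∃ U : Y.Opens, y ∈ U ∧ IsOpenImmersion (U.ι ≫ j) := by
  obtain ⟨V, hyV, -, hcl⟩ := exists_affine_isClosedImmersion j y ⊤ trivial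
  haveI := hcl
  obtain ⟨hsurj, haff⟩ := H17.app_surjective_of_restrict j (U := V.1) V.2
  have hfg : (RingHom.ker (j.app V.1).hom).FG := by
    have hfp := HasRingHomProperty.appLE (P := @LocallyOfFinitePresentation) j ‹_› V ⟨_, haff⟩ le_rfl
    rw [← Scheme.Hom.app_eq_appLE] at hfp
    letI := (j.app V.1).hom.toAlgebra
    haveI : Algebra.FinitePresentation Γ(X, V.1) Γ(Y, j ⁻¹ᵁ V.1) := hfp
    exact Algebra.FinitePresentation.ker_fG_of_surjective (Algebra.ofId Γ(X, V.1) Γ(Y, j ⁻¹ᵁ V.1)) hsurj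
  let germ := (X.presheaf.germ V.1 (j y) hyV).hom
  have hker : RingHom.ker (j.stalkMap y).hom = (RingHom.ker (j.app V.1).hom).map germ :=
    H17.ker_stalkMap_eq_map j V.2 y hyV
  have hbot : (RingHom.ker (j.app V.1).hom).map germ = ⊥ := by
    rw [← hker]
    refine Submodule.eq_bot_of_le_smul_of_le_jacobson_bot (RingHom.ker (j.stalkMap y).hom) _
      (hker ▸ hfg.map germ) ?_ ?_
    · rw [smul_eq_mul]; exact le_sq_of_subsingleton j y h
    · rw [IsLocalRing.jacobson_eq_maximalIdeal _ bot_ne_top]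
      exact IsLocalRing.le_maximalIdeal (RingHom.ker_ne_top _)
  letI := TopCat.Presheaf.algebra_section_stalk X.presheaf (⟨j y, hyV⟩ : V.1)
  haveI := V.2.isLocalization_stalk ⟨j y, hyV⟩
  classical
  obtain ⟨S, hS⟩ := hfg
  have hann : ∀ a ∈ S, ∃ s ∈ (V.2.primeIdealOf ⟨j y, hyV⟩).asIdeal.primeCompl, s * a = 0 := fun a ha => by
    have h0 : algebraMap Γ(X, V.1) (X.presheaf.stalk (j y)) a = 0 :=
      (Submodule.mem_bot _).1 (hbot ▸ Ideal.mem_map_of_mem germ (hS ▸ Ideal.subset_span ha))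
    obtain ⟨s, hs⟩ := (IsLocalization.map_eq_zero_iff (V.2.primeIdealOf ⟨j y, hyV⟩).asIdeal.primeCompl _ _).1 h0
    exact ⟨s.1, s.2, hs⟩
  choose! s hs hsa using hann
  let t := ∏ a ∈ S, s a
  have ht : t ∈ (V.2.primeIdealOf ⟨j y, hyV⟩).asIdeal.primeCompl := Submonoid.prod_mem _ hs
  have hyD : j y ∈ X.basicOpen t :=
    (X.mem_basicOpen t (j y) hyV).2 (IsLocalization.map_units (X.presheaf.stalk (j y)) ⟨t, ht⟩)
  have H : IsPullback (𝟙 Y) j j (𝟙 X) := IsPullback.of_horiz_isIso ⟨by simp⟩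
  obtain ⟨hclD, hkerD⟩ := H29Slice.restrict_baseChange H V.2 hcl (V.2.basicOpen t) (e := X.basicOpen_le t)
  have he : Scheme.Hom.appLE (𝟙 X) V.1 (X.basicOpen t) (X.basicOpen_le t) =
      X.presheaf.map (homOfLE (X.basicOpen_le t)).op := by
    simp only [Scheme.Hom.appLE, Scheme.Hom.id_app]
    rfl
  have hinj : RingHom.ker (j.app (X.basicOpen t)).hom = ⊥ := by
    rw [hkerD, he, ← hS, Ideal.map_span, Ideal.span_eq_bot]
    rintro _ ⟨a, ha, rfl⟩
    have hta : t * a = 0 := by
      rw [show t = s a * ∏ b ∈ S.erase a, s b from (Finset.mul_prod_erase S s ha).symm,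
        mul_right_comm, hsa a ha, zero_mul]
    have hu : IsUnit ((X.presheaf.map (homOfLE (X.basicOpen_le t)).op).hom t) :=
      RingedSpace.isUnit_res_basicOpen _ _
    exact hu.mul_right_eq_zero.1 (by rw [← map_mul, hta, map_zero])
  haveI := hclD
  haveI : IsAffine (X.basicOpen t : Scheme.{u}) := V.2.basicOpen t
  haveI : IsIso (j ∣_ X.basicOpen t) := by
    haveI : IsAffine (j ⁻¹ᵁ X.basicOpen t : Scheme.{u}) := isAffine_of_isAffineHom (j ∣_ X.basicOpen t)
    haveI : IsIso (j.app (X.basicOpen t)) := (ConcreteCategory.isIso_iff_bijective _).2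
      ⟨(RingHom.injective_iff_ker_eq_bot _).2 hinj, (H17.app_surjective_of_restrict j (V.2.basicOpen t)).1⟩
    rw [← MorphismProperty.isomorphisms.iff, HasAffineProperty.iff_of_isAffine (P := MorphismProperty.isomorphisms Scheme)]
    refine ⟨inferInstance, ?_⟩
    rw [morphismRestrict_appTop]
    have : IsIso (j.app ((X.basicOpen t).ι ''ᵁ ⊤)) := by rw [Scheme.Opens.ι_image_top]; infer_instance
    refine @IsIso.comp_isIso _ _ _ _ _ _ _ this ?_
    rw [eqToHom_op, eqToHom_map]
    have key : ∀ {A B : CommRingCat.{u}} (h : A = B), IsIso (eqToHom h) := fun h => by subst h; exact IsIso.id _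
    exact key _
  refine ⟨j ⁻¹ᵁ X.basicOpen t, hyD, ?_⟩
  rw [← morphismRestrict_ι]
  infer_instance

end Groth.Agent.H17.Conormal
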